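import Mathlib.RingTheory.MvPolynomial.WeightedHomogeneous
import Mathlib.RingTheory.LocalRing.Module
import Mathlib.Algebra.Module.FinitePresentation
import Mathlib.RingTheory.Spectrum.Prime.Basic
import Mathlib.RingTheory.Flat.Localization

/-!
# Graded projective modules over a polynomial ring with its fine grading
-/

noncomputable section

universe u v

open MvPolynomial DirectSum

namespace Groth.Agent.Lib.Instab.GradedFree

variable {R : Type u} [CommRing R] (n : ℕ)

/-- The weights of the variables. -/
abbrev wt : Fin n → (Fin n → ℤ) := fun i => Pi.single i 1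

theorem weight_eq (m : Fin n →₀ ℕ) : Finsupp.weight (wt n) m = fun i => (m i : ℤ) := by
  ext j
  rw [Finsupp.weight_apply, Finsupp.sum_fintype _ _ (fun i => by simp), Finset.sum_apply]
  simp [wt, Pi.single_apply]

theorem weight_eq_zero_iff (m : Fin n →₀ ℕ) : Finsupp.weight (wt n) m = 0 ↔ m = 0 := by
  refine ⟨fun h => ?_, fun h => by simp [h]⟩
  ext i
  have := congrFun ((weight_eq n m).symm.trans h) i
  simpa using this

theorem component_zero (c : MvPolynomial (Fin n) R) :
    weightedHomogeneousComponent (wt n) 0 c = C (constantCoeff c) := by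
  classical
  ext m
  rw [coeff_weightedHomogeneousComponent, coeff_C, constantCoeff_eq]
  by_cases hm : m = 0
  · subst hm; simp
  · rw [if_neg (by rwa [weight_eq_zero_iff]), if_neg (fun h => hm h.symm)]

theorem component_mul (c : MvPolynomial (Fin n) R) {k : Fin n → ℤ} {h : MvPolynomial (Fin n) R}
    (hh : h ∈ weightedHomogeneousSubmodule R (wt n) k) :
    weightedHomogeneousComponent (wt n) k (c * h) = C (constantCoeff c) * h := by
  classical
  induction c using MvPolynomial.induction_on' with
  | monomial m a =>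
    have hmh : monomial m a * h ∈ weightedHomogeneousSubmodule R (wt n) (Finsupp.weight (wt n) m + k) :=
      IsWeightedHomogeneous.mul (isWeightedHomogeneous_monomial _ m a rfl) hh
    rw [weightedHomogeneousComponent_of_mem hmh]
    by_cases hm : m = 0
    · subst hm
      simp
    · rw [if_neg (fun e => hm ((weight_eq_zero_iff n m).1 (left_eq_add.mp (e.trans (add_comm _ _))))),
        constantCoeff_monomial, if_neg hm, C_0, zero_mul]
  | add p q hp hq => rw [add_mul, map_add, hp, hq, map_add, map_add, add_mul]

variable {n} {P : Type v} [AddCommGroup P] [Module (MvPolynomial (Fin n) R) P] [Module R P]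
  [IsScalarTower R (MvPolynomial (Fin n) R) P] (ℳ : (Fin n → ℤ) → Submodule R P) [DirectSum.Decomposition ℳ]
  [SetLike.GradedSMul (MvPolynomial.weightedHomogeneousSubmodule R (wt n)) ℳ]

/-- The component of degree `e`. -/
def comp (e : Fin n → ℤ) : P →+ P where
  toFun p := (DirectSum.decompose ℳ p e : P)
  map_zero' := by simp
  map_add' p q := by simp

theorem comp_of_mem {p : P} {d : Fin n → ℤ} (hp : p ∈ ℳ d) (e : Fin n → ℤ) :
    comp ℳ e p = if d = e then p else 0 := by
  classical
  split_ifs with h
  · subst h; exact DirectSum.decompose_of_mem_same ℳ hp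
  · exact DirectSum.decompose_of_mem_ne ℳ hp h

theorem comp_smul {f : P} {d : Fin n → ℤ} (hf : f ∈ ℳ d) (e : Fin n → ℤ) (c : MvPolynomial (Fin n) R) :
    comp ℳ e (c • f) = weightedHomogeneousComponent (wt n) (e - d) c • f := by
  classical
  induction c using MvPolynomial.induction_on' with
  | monomial m a =>
    have hmf : monomial m a • f ∈ ℳ (Finsupp.weight (wt n) m + d) :=
      SetLike.GradedSMul.smul_mem (A := weightedHomogeneousSubmodule R (wt n))
        (isWeightedHomogeneous_monomial _ m a rfl) hf
    rw [comp_of_mem ℳ hmf, weightedHomogeneousComponent_of_mem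
      (show monomial m a ∈ weightedHomogeneousSubmodule R (wt n) _ from
        isWeightedHomogeneous_monomial _ m a rfl)]
    by_cases h : Finsupp.weight (wt n) m + d = e
    · rw [if_pos h, if_pos (by rw [← h]; abel)]
    · rw [if_neg h, if_neg (fun h' => h (by rw [← h']; abel)), zero_smul]
  | add p q hp hq => rw [add_smul, map_add, hp, hq, map_add, add_smul]

theorem sum_comp (p : P) : ∃ s : Finset (Fin n → ℤ), ∑ e ∈ s, comp ℳ e p = p := by
  classical
  exact ⟨(DirectSum.decompose ℳ p).support, DirectSum.sum_support_decompose ℳ p⟩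

omit [Module R P] in
/-- Finite powers commute with localization. -/
theorem isLocalizedModule_pi {A B : Type*} [CommRing A] [CommRing B] [Algebra A B] (S : Submonoid A)
    [IsLocalization S B] (ι : Type*) [Fintype ι] :
    IsLocalizedModule S (LinearMap.pi (fun i => (Algebra.linearMap A B).comp (LinearMap.proj i)) :
      (ι → A) →ₗ[A] (ι → B)) := by
  classical
  refine { map_units := fun s => (Module.End.isUnit_iff _).mpr ?_, surj := fun y => ?_, exists_of_eq := fun {x y} h => ?_ }
  · have hb := (Module.End.isUnit_iff _).mp (IsLocalizedModule.map_units (Algebra.linearMap A B) s)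
    refine ⟨fun a b h => funext fun i => hb.1 (congrFun h i), fun y => ?_⟩
    choose x hx using fun i => hb.2 (y i)
    exact ⟨x, funext hx⟩
  · obtain ⟨b, hb⟩ := IsLocalization.exist_integer_multiples_of_finite S y
    choose x hx using hb
    exact ⟨(x, b), funext fun i => (hx i).symm⟩
  · choose c hc using fun i => (IsLocalization.eq_iff_exists S B).mp (congrFun h i)
    refine ⟨∏ i, c i, funext fun i => ?_⟩
    obtain ⟨e, he⟩ := Finset.dvd_prod_of_mem c (Finset.mem_univ i)
    simp only [Submonoid.smul_def, Pi.smul_apply, smul_eq_mul, he, Submonoid.coe_mul]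
    rw [mul_comm (c i : A) e, mul_assoc, mul_assoc]
    exact congrArg ((e : A) * ·) (hc i)

/-- A finitely generated graded module has finitely many homogeneous generators. -/
theorem exists_homogeneous_generators [Module.Finite (MvPolynomial (Fin n) R) P] :
    ∃ (k : ℕ) (d : Fin k → (Fin n → ℤ)) (f : Fin k → P), (∀ i, f i ∈ ℳ (d i)) ∧
      Submodule.span (MvPolynomial (Fin n) R) (Set.range f) = ⊤ := by
  classical
  obtain ⟨G, hG⟩ := Module.Finite.fg_top (R := MvPolynomial (Fin n) R) (M := P)
  let S : Finset (P × (Fin n → ℤ)) :=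
    G.biUnion fun g => (sum_comp ℳ g).choose.image fun e => (comp ℳ e g, e)
  have hS : ∀ x ∈ S, x.1 ∈ ℳ x.2 := by
    intro x hx
    obtain ⟨g, -, hx⟩ := Finset.mem_biUnion.1 hx
    obtain ⟨e, -, rfl⟩ := Finset.mem_image.1 hx
    exact SetLike.coe_mem _
  refine ⟨S.card, fun i => (S.equivFin.symm i).1.2, fun i => (S.equivFin.symm i).1.1,
    fun i => hS _ (S.equivFin.symm i).2, ?_⟩
  rw [← top_le_iff, ← hG, Submodule.span_le]
  intro g hg
  rw [SetLike.mem_coe, ← (sum_comp ℳ g).choose_spec]
  refine Submodule.sum_mem _ fun e he => Submodule.subset_span ?_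
  exact ⟨S.equivFin ⟨(comp ℳ e g, e), Finset.mem_biUnion.2 ⟨g, hg, Finset.mem_image_of_mem _ he⟩⟩,
    by simp⟩

theorem main [Module.Finite (MvPolynomial (Fin n) R) P] [Module.Projective (MvPolynomial (Fin n) R) P]
    (p : PrimeSpectrum R) :
    ∃ r : R, r ∉ p.asIdeal ∧ ∃ (m : ℕ) (d : Fin m → (Fin n → ℤ)) (f : Fin m → P), (∀ i, f i ∈ ℳ (d i)) ∧
      (∀ q : P, ∃ (N : ℕ) (c : Fin m → MvPolynomial (Fin n) R),
        (C r : MvPolynomial (Fin n) R) ^ N • q = ∑ i, c i • f i) ∧
      (∀ c : Fin m → MvPolynomial (Fin n) R, ∑ i, c i • f i = 0 →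
        ∃ N : ℕ, ∀ i, (C r : MvPolynomial (Fin n) R) ^ N * c i = 0) := by
  classical
  obtain ⟨k, d₀, f₀, hf₀, hspan⟩ := exists_homogeneous_generators ℳ
  let A := MvPolynomial (Fin n) R
  have : Module.FinitePresentation A P := Module.finitePresentation_of_projective A P
  let Q : Ideal A := p.asIdeal.comap (constantCoeff : A →+* R)
  let AQ := Localization.AtPrime Q
  let PQ := LocalizedModule.AtPrime Q P
  let mk : P →ₗ[A] PQ := LocalizedModule.mkLinearMap Q.primeCompl P
  have : Module.FinitePresentation AQ PQ := inferInstance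
  have hv : Submodule.span AQ (Set.range (mk ∘ f₀)) = ⊤ := by
    rw [Set.range_comp]
    exact span_eq_top_of_isLocalizedModule AQ Q.primeCompl mk hspan
  obtain ⟨κ, a, b, hb⟩ := Module.exists_basis_of_span_of_flat (R := AQ) (mk ∘ f₀) hv
  have : Finite κ := Module.Finite.finite_basis b
  have : Fintype κ := Fintype.ofFinite κ
  let eκ := Fintype.equivFin κ
  let f : Fin (Fintype.card κ) → P := fun i => f₀ (a (eκ.symm i))
  let d : Fin (Fintype.card κ) → (Fin n → ℤ) := fun i => d₀ (a (eκ.symm i))
  have hf : ∀ i, f i ∈ ℳ (d i) := fun i => hf₀ _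
  let Φ : (Fin (Fintype.card κ) → A) →ₗ[A] P := Fintype.linearCombination A f
  have hΦ : ∀ c, Φ c = ∑ i, c i • f i := fun c => Fintype.linearCombination_apply A f c
  let mkF : (Fin (Fintype.card κ) → A) →ₗ[A] (Fin (Fintype.card κ) → AQ) :=
    LinearMap.pi fun i => (Algebra.linearMap A AQ).comp (LinearMap.proj i)
  have : IsLocalizedModule Q.primeCompl mkF := isLocalizedModule_pi Q.primeCompl _
  have hbij : Function.Bijective (IsLocalizedModule.map Q.primeCompl mkF mk Φ) := by
    let b' := b.reindex eκ
    have : (IsLocalizedModule.map Q.primeCompl mkF mk Φ) =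
        (b'.equivFun.symm.restrictScalars A).toLinearMap := by
      refine IsLocalizedModule.ext Q.primeCompl mkF (IsLocalizedModule.map_units mk) ?_
      ext i
      simp only [LinearMap.coe_comp, Function.comp_apply, IsLocalizedModule.map_apply, LinearMap.single_apply]
      simp [Φ, mkF, b', hb, f, Pi.single_apply, Module.Basis.equivFun_symm_apply,
        Fintype.linearCombination_apply_single]
    rw [this]
    exact (b'.equivFun.symm.restrictScalars A).bijective
  obtain ⟨g, hg, hgb⟩ := Module.FinitePresentation.exists_notMem_bijective Φ Q mkF mk hbij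
  set r := constantCoeff g with hr
  have hC : ∀ N : ℕ, weightedHomogeneousComponent (wt n) 0 (g ^ N) = (C r : A) ^ N := by
    intro N
    rw [component_zero, map_pow, map_pow]
  refine ⟨r, hg, _, d, f, hf, ?_, ?_⟩
  · -- homogeneous elements first
    have hhom : ∀ (e : Fin n → ℤ) (q : P), q ∈ ℳ e → ∃ N : ℕ, (C r : A) ^ N • q ∈ LinearMap.range Φ := by
      intro e q hq
      obtain ⟨z, hz⟩ := hgb.2 (LocalizedModule.mk q 1)
      induction z using LocalizedModule.induction_on with
      | h c s =>
        rw [LocalizedModule.map_mk, LocalizedModule.mk_eq] at hz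
        obtain ⟨⟨_, ⟨N₁, rfl⟩⟩, hN⟩ := hz
        obtain ⟨_, N₂, rfl⟩ := s
        simp only [Submonoid.smul_def, Submonoid.coe_one, one_smul, smul_smul, ← pow_add] at hN
        refine ⟨N₁ + N₂, ?_⟩
        have h2 := congrArg (comp ℳ e) hN
        rw [comp_smul ℳ hq, sub_self, hC, hΦ, Finset.smul_sum, map_sum] at h2
        refine ⟨fun i => weightedHomogeneousComponent (wt n) (e - d i) (g ^ N₁ * c i), ?_⟩
        rw [hΦ, ← h2]
        exact Finset.sum_congr rfl fun i _ => by rw [smul_smul, comp_smul ℳ (hf i)]
    intro q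
    choose Ne hNe using fun e => hhom e (comp ℳ e q) (SetLike.coe_mem _)
    obtain ⟨s, hs⟩ := sum_comp ℳ q
    have : (C r : A) ^ (s.sup Ne) • q ∈ LinearMap.range Φ := by
      rw [← hs, Finset.smul_sum]
      refine Submodule.sum_mem _ fun e he => ?_
      rw [← Nat.sub_add_cancel (Finset.le_sup (f := Ne) he), pow_add, mul_smul]
      exact Submodule.smul_mem _ _ (hNe e)
    obtain ⟨c, hc⟩ := this
    exact ⟨_, c, by rw [← hc, hΦ]⟩
  · -- relations
    intro c hc
    have hhom : ∀ e : Fin n → ℤ, ∃ N : ℕ, ∀ i,
        (C r : A) ^ N * weightedHomogeneousComponent (wt n) (e - d i) (c i) = 0 := by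
      intro e
      set h : Fin (Fintype.card κ) → A := fun i => weightedHomogeneousComponent (wt n) (e - d i) (c i)
        with hh
      have h0 : Φ h = 0 := by
        have := congrArg (comp ℳ e) hc
        rw [map_sum, map_zero] at this
        rw [hΦ, ← this]
        exact Finset.sum_congr rfl fun i _ => (comp_smul ℳ (hf i) e (c i)).symm
      have h1 : LocalizedModule.map (Submonoid.powers g) Φ (LocalizedModule.mk h 1) =
          LocalizedModule.map (Submonoid.powers g) Φ (LocalizedModule.mk 0 1) := by
        rw [LocalizedModule.map_mk, LocalizedModule.map_mk, h0, map_zero]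
      obtain ⟨⟨_, ⟨N, rfl⟩⟩, hN⟩ := LocalizedModule.mk_eq.mp (hgb.1 h1)
      simp only [Submonoid.smul_def, Submonoid.coe_one, one_smul, smul_zero] at hN
      refine ⟨N, fun i => ?_⟩
      have h2 := congrArg (weightedHomogeneousComponent (wt n) (e - d i)) (congrFun hN i)
      rw [Pi.smul_apply, smul_eq_mul, Pi.zero_apply, map_zero,
        component_mul n _ (weightedHomogeneousComponent_mem _ _ _), map_pow, map_pow] at h2
      exact h2
    choose Ne hNe using hhom
    let E : Finset (Fin n → ℤ) := Finset.univ.biUnion fun i =>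
      ((weightedHomogeneousComponent_finsupp (w := wt n) (c i)).toFinset).image fun k => k + d i
    refine ⟨E.sup Ne, fun i => ?_⟩
    conv_lhs => rw [← sum_weightedHomogeneousComponent (wt n) (c i),
      finsum_eq_sum _ (weightedHomogeneousComponent_finsupp (c i)), Finset.mul_sum]
    refine Finset.sum_eq_zero fun k hk => ?_
    have hmem : k + d i ∈ E :=
      Finset.mem_biUnion.2 ⟨i, Finset.mem_univ _, Finset.mem_image_of_mem _ hk⟩
    have := hNe (k + d i) i
    rw [add_sub_cancel_right] at this
    rw [← Nat.sub_add_cancel (Finset.le_sup (f := Ne) hmem), pow_add, mul_assoc, this, mul_zero]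

end Groth.Agent.Lib.Instab.GradedFree
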