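import Groth.Prelude.Def_GmAct
import Groth.Agent.Lib.SchDense.Basic
import Mathlib.AlgebraicGeometry.Pullbacks
import Mathlib.Algebra.Polynomial.Basis

/-!
# Equivariant families over the affine line
-/

noncomputable section

universe u

open CategoryTheory CategoryTheory.Limits MonoidalCategory CartesianMonoidalCategory MonObj GrpObj AlgebraicGeometry Opposite
open scoped TensorProduct Polynomial

namespace Groth.Agent.Lib.Instab.LineFamily

/-- The braided structure of `Spec`, at the spelling `CommRingCat.of R`. -/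
local instance (R : Type u) [CommRing R] : (algSpec (CommRingCat.of R)).Braided := braidedAlgSpec

variable (R : Type u) [CommRing R]

/-- `R[x] → R[z, z⁻¹]`, `x ↦ z`. -/
def jAlg : R[X] →ₐ[R] ThetaS.Lau R := ThetaS.linePt (ThetaS.zPow R 1)

/-- `t ↦ t`. -/
def j : ThetaS.Gm R ⟶ ThetaS.Line R := CoactBr.pt (jAlg R)

theorem jAlg_X_pow (n : ℕ) : jAlg R (Polynomial.X ^ n) = ThetaS.zPow R (n : ℤ) := by
  induction n with
  | zero => simp [ThetaS.zPow, MonoidAlgebra.one_def]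
  | succ n ih =>
    rw [pow_succ, map_mul, ih, jAlg, Polynomial.aeval_X, ThetaS.zPow_mul]
    push_cast
    rfl

/-- A linear retraction of `R[x] → R[z, z⁻¹]`. -/
def retr : ThetaS.Lau R →ₗ[R] R[X] :=
  (MonoidAlgebra.basis (Multiplicative ℤ) R).constr R fun g =>
    if 0 ≤ g.toAdd then Polynomial.X ^ g.toAdd.toNat else 0

theorem retr_comp : (retr R) ∘ₗ (jAlg R).toLinearMap = LinearMap.id := by
  refine (Polynomial.basisMonomials R).ext fun n => ?_
  rw [Polynomial.coe_basisMonomials]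
  change retr R (jAlg R (Polynomial.monomial n 1)) = Polynomial.monomial n 1
  rw [← Polynomial.X_pow_eq_monomial, jAlg_X_pow]
  rw [show ThetaS.zPow R (n : ℤ) = MonoidAlgebra.basis (Multiplicative ℤ) R (Multiplicative.ofAdd (n : ℤ)) by
    rw [MonoidAlgebra.basis_apply]]
  rw [retr, Module.Basis.constr_basis]
  simp

theorem map_jAlg_injective (A : Type u) [CommRing A] [Algebra R A] :
    Function.Injective (Algebra.TensorProduct.map (jAlg R) (AlgHom.id R A)) := by
  refine Function.LeftInverse.injective (g := (retr R).rTensor A) fun z => ?_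
  have h : (retr R).rTensor A ∘ₗ (jAlg R).toLinearMap.rTensor A = LinearMap.id := by
    rw [← LinearMap.rTensor_comp, retr_comp, LinearMap.rTensor_id]
  exact LinearMap.congr_fun h z

variable {R}

theorem pullbackSpecIso_inv_map {B C A : Type u} [CommRing B] [CommRing C] [CommRing A]
    [Algebra R B] [Algebra R C] [Algebra R A] (φ : B →ₐ[R] C) :
    (pullbackSpecIso R C A).inv ≫
      pullback.map _ _ (Spec.map (CommRingCat.ofHom (algebraMap R B)))
        (Spec.map (CommRingCat.ofHom (algebraMap R A))) (Spec.map (CommRingCat.ofHom φ.toRingHom)) (𝟙 _) (𝟙 _)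
        (by rw [← Spec.map_comp, Category.comp_id]; congr 1; ext r; exact (φ.commutes r).symm) (by simp) =
      Spec.map (CommRingCat.ofHom (Algebra.TensorProduct.map φ (AlgHom.id R A)).toRingHom) ≫
        (pullbackSpecIso R B A).inv := by
  apply pullback.hom_ext
  · rw [Category.assoc, pullback.lift_fst, pullbackSpecIso_inv_fst_assoc, Category.assoc,
      pullbackSpecIso_inv_fst, ← Spec.map_comp, ← Spec.map_comp]
    congr 1
  · rw [Category.assoc, pullback.lift_snd, Category.comp_id, pullbackSpecIso_inv_snd, Category.assoc,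
      pullbackSpecIso_inv_snd, ← Spec.map_comp]
    congr 1
    ext b
    simp

theorem cancel_j_affine {X : Over (Spec (CommRingCat.of R))} [IsSeparated X.hom]
    (A : Type u) [CommRing A] [Algebra R A]
    (f g : ThetaS.Line R ⊗ CoactBr.sp R A ⟶ X)
    (h : (j R ▷ CoactBr.sp R A) ≫ f = (j R ▷ CoactBr.sp R A) ≫ g) : f = g := by
  ext1
  let iL := pullbackSpecIso R R[X] A
  let iG := pullbackSpecIso R (ThetaS.Lau R) A
  let m := CommRingCat.ofHom (Algebra.TensorProduct.map (jAlg R) (AlgHom.id R A)).toRingHom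
  have hd : iG.inv ≫ (j R ▷ CoactBr.sp R A).left = Spec.map m ≫ iL.inv :=
    pullbackSpecIso_inv_map (jAlg R)
  have := SchDense.Basic.std_specMap_of_injective m (map_jAlg_injective R A)
  refine (cancel_epi iL.inv).mp (SchDense.Basic.ext_of_std X.hom ?_ (Spec.map m) ?_)
  · exact (Category.assoc _ _ _).trans ((congrArg (iL.inv ≫ ·) ((Over.w f).trans (Over.w g).symm)).trans
      (Category.assoc _ _ _).symm)
  · calc Spec.map m ≫ iL.inv ≫ f.left = (Spec.map m ≫ iL.inv) ≫ f.left := (Category.assoc _ _ _).symm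
      _ = (iG.inv ≫ (j R ▷ CoactBr.sp R A).left) ≫ f.left := congrArg (· ≫ f.left) hd.symm
      _ = iG.inv ≫ (j R ▷ CoactBr.sp R A).left ≫ f.left := Category.assoc _ _ _
      _ = iG.inv ≫ (j R ▷ CoactBr.sp R A).left ≫ g.left :=
        congrArg (iG.inv ≫ ·) (congrArg CommaMorphism.left h)
      _ = (iG.inv ≫ (j R ▷ CoactBr.sp R A).left) ≫ g.left := (Category.assoc _ _ _).symm
      _ = (Spec.map m ≫ iL.inv) ≫ g.left := congrArg (· ≫ g.left) hd
      _ = Spec.map m ≫ iL.inv ≫ g.left := Category.assoc _ _ _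

/-- Precomposition with `j × T` is injective on morphisms to separated targets. -/
theorem cancel_j {X T : Over (Spec (CommRingCat.of R))} [IsSeparated X.hom]
    (f g : ThetaS.Line R ⊗ T ⟶ X) (h : (j R ▷ T) ≫ f = (j R ▷ T) ≫ g) : f = g := by
  ext1
  let 𝒰 := T.left.affineOpenCover.openCover
  refine (Scheme.Pullback.openCoverOfRight 𝒰 (ThetaS.Line R).hom T.hom).hom_ext _ _ fun i => ?_
  let T' : Over (Spec (CommRingCat.of R)) := Over.mk (𝒰.f i ≫ T.hom)
  let incl : T' ⟶ T := Over.homMk (𝒰.f i)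
  have hT : (ThetaS.Line R ◁ incl) ≫ f = (ThetaS.Line R ◁ incl) ≫ g := by
    let B : CommRingCat.{u} := T.left.affineOpenCover.X i
    let e₀ : Spec B ≅ T'.left := Iso.refl _
    let φ := Spec.preimage (e₀.hom ≫ T'.hom)
    algebraize [φ.hom]
    let e : CoactBr.sp R B ≅ T' := Over.isoMk e₀ (Spec.map_preimage _).symm
    rw [← cancel_epi (ThetaS.Line R ◁ e.hom)]
    refine cancel_j_affine B _ _ ?_
    rw [← MonoidalCategory.whiskerLeft_comp_assoc, ← MonoidalCategory.whiskerLeft_comp_assoc,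
      ← whisker_exchange_assoc, ← whisker_exchange_assoc, h]
  exact congrArg CommaMorphism.left hT

theorem act_j :
    (ThetaS.Gm R ◁ j R) ≫ (ThetaS.lineAction R).act = μ[ThetaS.Gm R] ≫ j R := by
  let e : CoactBr.sp R (ThetaS.Lau R ⊗[R] ThetaS.Lau R) ⟶ ThetaS.Gm R ⊗ ThetaS.Gm R :=
    lift (CoactBr.pt Algebra.TensorProduct.includeLeft) (CoactBr.pt Algebra.TensorProduct.includeRight)
  have : Epi e := by
    let μ' : ThetaS.Gm R ⊗ ThetaS.Gm R ⟶ CoactBr.sp R (ThetaS.Lau R ⊗[R] ThetaS.Lau R) :=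
      Functor.LaxMonoidal.μ (algSpec (CommRingCat.of R)) (op (.of R (ThetaS.Lau R))) (op (.of R (ThetaS.Lau R)))
    have h : e ≫ μ' = 𝟙 _ := by
      refine (CoactBr.lift_pt_pt _ _).trans ?_
      rw [← CoactBr.pt_id]
      congr 1
      exact Algebra.TensorProduct.ext' fun a b => by simp
    have : IsIso μ' := inferInstanceAs (IsIso (Functor.LaxMonoidal.μ (algSpec (CommRingCat.of R)) _ _))
    have : IsIso e := IsIso.of_isIso_fac_right h
    infer_instance
  rw [← cancel_epi e]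
  have hr : CoactBr.pt (Algebra.TensorProduct.includeRight : ThetaS.Lau R →ₐ[R] _) ≫ j R =
      CoactBr.pt (ThetaS.linePt ((Algebra.TensorProduct.includeRight : ThetaS.Lau R →ₐ[R]
        ThetaS.Lau R ⊗[R] ThetaS.Lau R) (ThetaS.zPow R 1))) := by
    rw [j, ← CoactBr.pt_comp]
    congr 1
    ext
    simp [jAlg]
  have hl : e ≫ (ThetaS.Gm R ◁ j R) = lift (CoactBr.pt Algebra.TensorProduct.includeLeft)
      (CoactBr.pt Algebra.TensorProduct.includeRight ≫ j R) := lift_whiskerLeft _ _ _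
  have hm : e ≫ μ[ThetaS.Gm R] = CoactBr.pt Algebra.TensorProduct.includeLeft * CoactBr.pt Algebra.TensorProduct.includeRight := rfl
  rw [← Category.assoc, hl, hr, ThetaS.lineAction_pt, ← Category.assoc, hm, CoactBr.pt_mul_pt, j, ← CoactBr.pt_comp]
  congr 1
  ext
  simp [jAlg]

theorem lift_act_j {T : Over (Spec (CommRingCat.of R))} (a b : T ⟶ ThetaS.Gm R) :
    lift a (b ≫ j R) ≫ (ThetaS.lineAction R).act = (a * b) ≫ j R := by
  rw [← lift_whiskerLeft, Category.assoc, act_j, ← Category.assoc, ← Hom.mul_def]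

theorem lift_mul_act {G X : Over (Spec (CommRingCat.of R))} [GrpObj G] (a : AlgGrp.Action G X)
    {T : Over (Spec (CommRingCat.of R))} (g h : T ⟶ G) (x : T ⟶ X) :
    lift (g * h) x ≫ a.act = lift g (lift h x ≫ a.act) ≫ a.act := by
  rw [Hom.mul_def, ← lift_whiskerRight, Category.assoc, a.mul_act, lift_lift_associator_hom_assoc,
    lift_whiskerLeft_assoc]

/-- The equivariance condition, on points. -/
theorem equiv_points {X T : Over (Spec (CommRingCat.of R))} {a : AlgGrp.Action (ThetaS.Gm R) X}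
    {u : ThetaS.Line R ⊗ T ⟶ X}
    (hu : (α_ (ThetaS.Gm R) (ThetaS.Line R) T).inv ≫ ((ThetaS.lineAction R).act ▷ T) ≫ u =
      (ThetaS.Gm R ◁ u) ≫ a.act)
    {P : Over (Spec (CommRingCat.of R))} (g : P ⟶ ThetaS.Gm R) (l : P ⟶ ThetaS.Line R) (t : P ⟶ T) :
    lift (lift g l ≫ (ThetaS.lineAction R).act) t ≫ u = lift g (lift l t ≫ u) ≫ a.act := by
  have h := congrArg (fun k => lift g (lift l t) ≫ k) hu
  simpa only [lift_lift_associator_inv_assoc, lift_whiskerRight_assoc, lift_whiskerLeft_assoc] using h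

theorem unique {X T : Over (Spec (CommRingCat.of R))} [IsSeparated X.hom]
    (a : AlgGrp.Action (ThetaS.Gm R) X) (u v : ThetaS.Line R ⊗ T ⟶ X)
    (hu : (α_ (ThetaS.Gm R) (ThetaS.Line R) T).inv ≫ ((ThetaS.lineAction R).act ▷ T) ≫ u =
      (ThetaS.Gm R ◁ u) ≫ a.act)
    (hv : (α_ (ThetaS.Gm R) (ThetaS.Line R) T).inv ≫ ((ThetaS.lineAction R).act ▷ T) ≫ v =
      (ThetaS.Gm R ◁ v) ≫ a.act)
    (h1 : lift ((1 : T ⟶ ThetaS.Gm R) ≫ j R) (𝟙 T) ≫ u = lift ((1 : T ⟶ ThetaS.Gm R) ≫ j R) (𝟙 T) ≫ v) :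
    u = v := by
  refine cancel_j u v ?_
  have key : ∀ w : ThetaS.Line R ⊗ T ⟶ X,
      (α_ (ThetaS.Gm R) (ThetaS.Line R) T).inv ≫ ((ThetaS.lineAction R).act ▷ T) ≫ w =
        (ThetaS.Gm R ◁ w) ≫ a.act →
      (j R ▷ T) ≫ w = lift (fst _ _) (snd _ _ ≫ lift ((1 : T ⟶ ThetaS.Gm R) ≫ j R) (𝟙 T) ≫ w) ≫ a.act := by
    intro w hw
    have := equiv_points hw (fst (ThetaS.Gm R) T) ((1 : _ ⟶ ThetaS.Gm R) ≫ j R) (snd _ _)
    rw [lift_act_j, _root_.mul_one] at this
    have e1 : j R ▷ T = lift (fst _ T ≫ j R) (snd _ T) := by ext <;> simp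
    rw [e1, this, ← Category.assoc, comp_lift, comp_one_assoc, Category.comp_id]
  rw [key u hu, key v hv, h1]

theorem equivariant {X T : Over (Spec (CommRingCat.of R))} [IsSeparated X.hom]
    (a : AlgGrp.Action (ThetaS.Gm R) X) (x : T ⟶ X) (u : ThetaS.Line R ⊗ T ⟶ X)
    (hx : (j R ▷ T) ≫ u = (ThetaS.Gm R ◁ x) ≫ a.act) :
    (α_ (ThetaS.Gm R) (ThetaS.Line R) T).inv ≫ ((ThetaS.lineAction R).act ▷ T) ≫ u =
      (ThetaS.Gm R ◁ u) ≫ a.act := by
  let G := ThetaS.Gm R
  let L := ThetaS.Line R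
  let ψ : L ⊗ (G ⊗ T) ⟶ G ⊗ (L ⊗ T) := lift (snd _ _ ≫ fst _ _) (lift (fst _ _) (snd _ _ ≫ snd _ _))
  have : Epi ψ := by
    let ψ' : G ⊗ (L ⊗ T) ⟶ L ⊗ (G ⊗ T) := lift (snd _ _ ≫ fst _ _) (lift (fst _ _) (snd _ _ ≫ snd _ _))
    have h : ψ' ≫ ψ = 𝟙 _ := by
      ext <;> simp [ψ, ψ', G, L]
    exact (IsSplitEpi.mk' ⟨ψ', h⟩).epi
  rw [← cancel_epi ψ]
  refine cancel_j _ _ ?_
  have ep : j R ▷ (G ⊗ T) ≫ ψ =
      lift (snd _ _ ≫ fst _ _) (lift (fst _ _ ≫ j R) (snd _ _ ≫ snd _ _)) := by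
    ext <;> simp [ψ, G, L]
  rw [← Category.assoc (j R ▷ (G ⊗ T)) ψ, ← Category.assoc (j R ▷ (G ⊗ T)) ψ, ep,
    lift_lift_associator_inv_assoc, lift_whiskerRight_assoc, lift_whiskerLeft_assoc, lift_act_j]
  have key : ∀ {P : Over (Spec (CommRingCat.of R))} (h : P ⟶ G) (t : P ⟶ T),
      lift (h ≫ j R) t ≫ u = lift h (t ≫ x) ≫ a.act := fun h t => by
    rw [← lift_whiskerRight, Category.assoc, hx, lift_whiskerLeft_assoc]
  rw [key, key]
  exact lift_mul_act a _ _ _

end Groth.Agent.Lib.Instab.LineFamily
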