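import Groth.Agent.Lib.SchDense.Basic
import Mathlib.AlgebraicGeometry.ValuativeCriterion
import Mathlib.AlgebraicGeometry.ResidueField
import Mathlib.AlgebraicGeometry.Morphisms.FiniteType
import Mathlib.RingTheory.Valuation.LocalSubring

/-!
# The valuative criterion and finiteness of components imply quasi-compactness
-/

noncomputable section

universe u

open CategoryTheory AlgebraicGeometry TopologicalSpace

namespace Groth.Agent.Lib.Instab.ValQC

/-- The space of valuation subrings containing a given subset is quasi-compact: from every covering by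
"finitely many elements belong to `W`" one extracts a finite one. -/
theorem exists_finset_of_forall_valuationSubring {K : Type*} [Field K] {ι : Type*} (B : Set K)
    (S : ι → Finset K)
    (h : ∀ W : ValuationSubring K, B ⊆ (W : Set K) → ∃ i, ↑(S i) ⊆ (W : Set K)) :
    ∃ F : Finset ι, ∀ W : ValuationSubring K, B ⊆ (W : Set K) → ∃ i ∈ F, ↑(S i) ⊆ (W : Set K) := by
  classical
  let Z : Set (K → Bool) := {χ | (∀ b ∈ B, χ b = true) ∧ χ 0 = true ∧ χ 1 = true ∧
    (∀ a b, χ a = true → χ b = true → χ (a + b) = true) ∧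
    (∀ a b, χ a = true → χ b = true → χ (a * b) = true) ∧
    (∀ a, χ a = true → χ (-a) = true) ∧ (∀ a, χ a = true ∨ χ a⁻¹ = true)}
  have hcl : ∀ a : K, IsClosed {χ : K → Bool | χ a = true} := fun a => by
    exact IsClosed.preimage (f := fun χ : K → Bool => χ a) (continuous_apply a) (isClosed_discrete ({true} : Set Bool))
  have hop : ∀ a : K, IsOpen {χ : K → Bool | χ a = true} := fun a => by
    exact IsOpen.preimage (f := fun χ : K → Bool => χ a) (continuous_apply a) (isOpen_discrete ({true} : Set Bool))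
  have hcp : ∀ a : K, IsClosed {χ : K → Bool | ¬ χ a = true} := fun a => (hop a).isClosed_compl
  have hZ : IsCompact Z := by
    refine IsClosed.isCompact ?_
    simp only [Z, Set.ofPred_and, Set.ofPred_forall, imp_iff_not_or, Set.ofPred_or]
    refine (isClosed_iInter fun b => (isClosed_iInter fun _ => isClosed_const).union (hcl b)).inter <| (hcl 0).inter <| (hcl 1).inter <|
      (isClosed_iInter fun a => isClosed_iInter fun b => (hcp a).union ((hcp b).union (hcl _))).inter <|
      (isClosed_iInter fun a => isClosed_iInter fun b => (hcp a).union ((hcp b).union (hcl _))).inter <|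
      (isClosed_iInter fun a => (hcp a).union (hcl _)).inter <|
      isClosed_iInter fun a => (hcl a).union (hcl _)
  obtain ⟨F, hF⟩ := hZ.elim_finite_subcover (fun i => {χ : K → Bool | ∀ a ∈ S i, χ a = true})
    (fun i => by
      have : {χ : K → Bool | ∀ a ∈ S i, χ a = true} = ⋂ a ∈ S i, {χ | χ a = true} := by ext; simp
      rw [this]; exact isOpen_biInter_finset fun a _ => hop a)
    (by
      rintro χ ⟨hB, h0, h1, hadd, hmul, hneg, hinv⟩
      let W : ValuationSubring K :=
        { carrier := {a | χ a = true}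
          mul_mem' := fun ha hb => hmul _ _ ha hb
          one_mem' := h1
          add_mem' := fun ha hb => hadd _ _ ha hb
          zero_mem' := h0
          neg_mem' := fun ha => hneg _ ha
          mem_or_inv_mem' := hinv }
      obtain ⟨i, hi⟩ := h W hB
      exact Set.mem_iUnion.2 ⟨i, fun a ha => hi ha⟩)
  refine ⟨F, fun W hW => ?_⟩
  have hWZ : (fun a => decide (a ∈ W)) ∈ Z :=
    ⟨fun b hb => decide_eq_true (hW hb), decide_eq_true W.zero_mem, decide_eq_true W.one_mem,
      fun a b ha hb => decide_eq_true (W.add_mem _ _ (of_decide_eq_true ha) (of_decide_eq_true hb)),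
      fun a b ha hb => decide_eq_true (W.mul_mem _ _ (of_decide_eq_true ha) (of_decide_eq_true hb)),
      fun a ha => decide_eq_true (W.neg_mem _ (of_decide_eq_true ha)),
      fun a => (W.mem_or_inv_mem a).imp decide_eq_true decide_eq_true⟩
  obtain ⟨i, hi, hi'⟩ := Set.mem_iUnion₂.1 (hF hWZ)
  exact ⟨i, hi, fun a ha => of_decide_eq_true (hi' a ha)⟩

variable {X Y : Scheme.{u}} (f : X ⟶ Y)

/-- A map from a valuation ring into an affine scheme is determined at the generic point. -/
theorem ext_of_generic {A : Type u} [CommRing A] {K : Type u} [Field K] {φ : A →+* K} (hφ : Function.Injective φ)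
    {V : Scheme.{u}} [IsAffine V] (a b : Spec (CommRingCat.of A) ⟶ V)
    (h : Spec.map (CommRingCat.ofHom φ) ≫ a = Spec.map (CommRingCat.ofHom φ) ≫ b) : a = b :=
  have := SchDense.Basic.std_specMap_of_injective (CommRingCat.ofHom φ) hφ
  SchDense.Basic.ext_of_std (specULiftZIsTerminal.from V) (specULiftZIsTerminal.hom_ext _ _) _ h

theorem fromSpecResidueField_eq {U : X.Opens} (hU : IsAffineOpen U) {x : X} (hx : x ∈ U) :
    X.fromSpecResidueField x = Spec.map (X.evaluation U x hx) ≫ hU.fromSpec := by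
  rw [Scheme.fromSpecResidueField, ← hU.fromSpecStalk_eq_fromSpecStalk hx, IsAffineOpen.fromSpecStalk,
    ← Spec.map_comp_assoc]
  rfl

theorem mem_of_lift {U : X.Opens} {A : Type u} [CommRing A] (hU : IsAffineOpen U)
    (φ : Γ(X, U) ⟶ CommRingCat.of A) (p : Spec (CommRingCat.of A)) : (Spec.map φ ≫ hU.fromSpec) p ∈ U := by
  rw [Scheme.Hom.comp_apply, ← SetLike.mem_coe, ← hU.range_fromSpec]
  exact ⟨_, rfl⟩

theorem isCompact_preimage [LocallyOfFiniteType f] (hf : ValuativeCriterion f) {G : Set X} (hG : G.Finite)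
    (hgen : ∀ y : X, ∃ η ∈ G, η ⤳ y) {V : Y.Opens} (hV : IsAffineOpen V) :
    IsCompact (f ⁻¹ᵁ V : Set X) := by
  classical
  let I := {U : X.Opens // IsAffineOpen U ∧ U ≤ f ⁻¹ᵁ V}
  suffices h : ∀ η : X, f η ∈ V → ∃ F : Finset I, ∀ y : X, η ⤳ y → y ∈ f ⁻¹ᵁ V → ∃ U ∈ F, y ∈ U.1 by
    choose F hF using h
    let F' : X → Finset I := fun η => if hη : f η ∈ V then F η hη else ∅
    have heq : (f ⁻¹ᵁ V : Set X) = ⋃ η ∈ G, ⋃ U ∈ F' η, (U.1 : Set X) := by
      refine Set.Subset.antisymm (fun y hy => ?_) (Set.iUnion₂_subset fun η _ => Set.iUnion₂_subset fun U _ => U.2.2)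
      obtain ⟨η, hη, hs⟩ := hgen y
      have hηV : f η ∈ V := hs.mem_open (f ⁻¹ᵁ V).isOpen hy
      obtain ⟨U, hU, hyU⟩ := hF η hηV y hs hy
      refine Set.mem_iUnion₂.2 ⟨η, hη, Set.mem_iUnion₂.2 ⟨U, ?_, hyU⟩⟩
      simp only [F', dif_pos hηV]
      exact hU
    rw [heq]
    exact hG.isCompact_biUnion fun η _ => (F' η).finite_toSet.isCompact_biUnion fun U _ => U.2.1.isCompact
  intro η hηV
  let K := X.residueField η
  let base : Γ(Y, V) ⟶ K := f.app V ≫ X.evaluation (f ⁻¹ᵁ V) η hηV
  have hbase : ∀ (U : I) (hU : η ∈ U.1.1),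
      f.appLE V U.1 U.2.2 ≫ X.evaluation U.1 η hU = base := by
    intro U hU
    simp only [base, Scheme.Hom.appLE, Category.assoc, Scheme.evaluation]
    rw [TopCat.Presheaf.germ_res_assoc]
  let J := {U : I // η ∈ U.1}
  have hgens : ∀ U : J, ∃ S : Finset K, (↑S ⊆ Set.range (X.evaluation U.1.1 η U.2).hom) ∧
      ∀ W : ValuationSubring K, Set.range base.hom ⊆ (W : Set K) →
      ↑S ⊆ (W : Set K) → ∀ a, (X.evaluation U.1.1 η U.2).hom a ∈ W := by
    intro U
    have hft := f.finiteType_appLE hV U.1.2.1 U.1.2.2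
    algebraize [(f.appLE V U.1.1 U.1.2.2).hom]
    obtain ⟨s, hs⟩ := Algebra.FiniteType.out (R := Γ(Y, V)) (A := Γ(X, U.1.1))
    refine ⟨s.image (X.evaluation U.1.1 η U.2).hom, by rw [Finset.coe_image]; exact Set.image_subset_range _ _,
      fun W hW hS a => ?_⟩
    let T : Subalgebra Γ(Y, V) Γ(X, U.1.1) :=
      { W.toSubring.comap (X.evaluation U.1.1 η U.2).hom with
        algebraMap_mem' := fun r => hW ⟨r, (congrArg (fun g : Γ(Y, V) ⟶ K => g.hom r) (hbase U.1 U.2)).symm⟩ }
    have : (⊤ : Subalgebra Γ(Y, V) Γ(X, U.1.1)) ≤ T := hs ▸ Algebra.adjoin_le fun b hb =>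
      hS (Finset.mem_image_of_mem _ hb)
    exact this Algebra.mem_top
  choose S hS' hS using hgens
  -- lifts
  have hlift : ∀ (W : ValuationSubring K) (U : J) (hW : Set.range base.hom ⊆ (W : Set K))
      (ha : ∀ a, (X.evaluation U.1.1 η U.2).hom a ∈ W) (l : Spec (CommRingCat.of W) ⟶ X),
      Spec.map (CommRingCat.ofHom (algebraMap W K)) ≫ l = X.fromSpecResidueField η →
      (∃ ψ : Γ(Y, V) ⟶ CommRingCat.of W, ψ ≫ CommRingCat.ofHom (algebraMap W K) = base ∧
        l ≫ f = Spec.map ψ ≫ hV.fromSpec) →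
      ∀ p, l p ∈ U.1.1 := by
    intro W U hW ha l hl hl2 p
    obtain ⟨ψ, hψ, hl2⟩ := hl2
    let φ : Γ(X, U.1.1) ⟶ CommRingCat.of W := CommRingCat.ofHom ((X.evaluation U.1.1 η U.2).hom.codRestrict W ha)
    have hφ : φ ≫ CommRingCat.ofHom (algebraMap W K) = X.evaluation U.1.1 η U.2 := rfl
    let l' := Spec.map φ ≫ U.1.2.1.fromSpec
    have hl' : Spec.map (CommRingCat.ofHom (algebraMap W K)) ≫ l' = X.fromSpecResidueField η := by
      rw [← Spec.map_comp_assoc, hφ, fromSpecResidueField_eq U.1.2.1 U.2]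
    have hl'2 : l' ≫ f = Spec.map ψ ≫ hV.fromSpec := by
      have h2 : φ ≫ CommRingCat.ofHom (algebraMap W K) = _ := hφ
      have hψ' : f.appLE V U.1.1 U.1.2.2 ≫ φ = ψ := by
        refine CommRingCat.hom_ext (RingHom.ext fun r => Subtype.ext ?_)
        change (f.appLE V U.1.1 U.1.2.2 ≫ X.evaluation U.1.1 η U.2).hom r =
          (ψ ≫ CommRingCat.ofHom (algebraMap W K)).hom r
        rw [hψ, hbase]
      rw [Category.assoc, ← IsAffineOpen.SpecMap_appLE_fromSpec f hV U.1.2.1 U.1.2.2,
        ← Spec.map_comp_assoc, hψ']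
    let sq : ValuativeCommSq f :=
      { R := W, K := K, i₁ := X.fromSpecResidueField η, i₂ := l ≫ f,
        commSq := ⟨by rw [← reassoc_of% hl]⟩ }
    obtain ⟨huniq⟩ := hf sq
    have heq : l = l' := congrArg CommSq.LiftStruct.l
      ((huniq.eq_default ⟨l, hl, rfl⟩).trans (huniq.eq_default ⟨l', hl', hl'2.trans hl2.symm⟩).symm)
    rw [heq]
    exact mem_of_lift U.1.2.1 φ p
  obtain ⟨F, hF⟩ := exists_finset_of_forall_valuationSubring (Set.range base.hom) S (fun W hW => by
    let ψ : Γ(Y, V) ⟶ CommRingCat.of W :=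
      CommRingCat.ofHom (base.hom.codRestrict W fun r => hW ⟨r, rfl⟩)
    have hψ : ψ ≫ CommRingCat.ofHom (algebraMap W K) = base := rfl
    have w : X.fromSpecResidueField η ≫ f =
        Spec.map (CommRingCat.ofHom (algebraMap W K)) ≫ Spec.map ψ ≫ hV.fromSpec := by
      rw [← Spec.map_comp_assoc, hψ]
      obtain ⟨_, ⟨U, hU, rfl⟩, hηU, hUV⟩ :=
        X.isBasis_affineOpens.exists_subset_of_mem_open (show η ∈ (f ⁻¹ᵁ V : Set X) from hηV) (f ⁻¹ᵁ V).isOpen
      rw [← hbase ⟨U, hU, hUV⟩ hηU, fromSpecResidueField_eq hU hηU, Category.assoc,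
        ← IsAffineOpen.SpecMap_appLE_fromSpec f hV hU hUV, Spec.map_comp_assoc]
    obtain ⟨l, hl, hl2⟩ := (hf.existence
      { R := W, K := K, i₁ := X.fromSpecResidueField η, i₂ := Spec.map ψ ≫ hV.fromSpec, commSq := ⟨w⟩ }).exists_lift
    dsimp only at hl hl2
    let c := IsLocalRing.closedPoint W
    have hcV : l c ∈ f ⁻¹ᵁ V := by
      change (l ≫ f) c ∈ V
      rw [hl2]
      exact mem_of_lift hV ψ c
    obtain ⟨_, ⟨U, hU, rfl⟩, hcU, hUV⟩ :=
      X.isBasis_affineOpens.exists_subset_of_mem_open (show l c ∈ (f ⁻¹ᵁ V : Set X) from hcV) (f ⁻¹ᵁ V).isOpen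
    have hrange : Set.range l ⊆ Set.range hU.fromSpec := by
      rw [hU.range_fromSpec]
      rintro _ ⟨q, rfl⟩
      exact ((IsLocalRing.specializes_closedPoint q).map l.continuous).mem_open U.isOpen hcU
    have : IsOpenImmersion (IsAffineOpen.fromSpec hU) := IsAffineOpen.isOpenImmersion_fromSpec hU
    let m := IsOpenImmersion.lift hU.fromSpec l hrange
    have hm : m ≫ hU.fromSpec = l := IsOpenImmersion.lift_fac _ _ _
    have hηU : η ∈ U := by
      have p : Spec (CommRingCat.of K) := IsLocalRing.closedPoint K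
      have h1 : l (Spec.map (CommRingCat.ofHom (algebraMap W K)) p) = η := by
        rw [← Scheme.Hom.comp_apply, hl]
        exact Scheme.fromSpecResidueField_apply _ _
      have h2 := hrange ⟨_, h1⟩
      rwa [hU.range_fromSpec] at h2
    have hev : X.evaluation U η hηU = Spec.preimage m ≫ CommRingCat.ofHom (algebraMap W K) := by
      apply Spec.map_injective
      rw [← cancel_mono hU.fromSpec, ← fromSpecResidueField_eq hU hηU, Spec.map_comp, Spec.map_preimage,
        Category.assoc, hm]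
      exact hl.symm
    refine ⟨⟨⟨U, hU, hUV⟩, hηU⟩, fun a ha => ?_⟩
    obtain ⟨b, rfl⟩ := hS' _ ha
    rw [show (X.evaluation U η hηU).hom b = _ from congrArg (fun g : Γ(X, U) ⟶ K => g.hom b) hev]
    exact SetLike.coe_mem _)
  refine ⟨F.image Subtype.val, fun y hs hy => ?_⟩
  obtain ⟨W, hW, hW'⟩ := IsLocalRing.exists_factor_valuationRing (X.presheaf.stalkSpecializes hs ≫ X.residue η).hom
  let χ : X.presheaf.stalk y ⟶ CommRingCat.of W :=
    CommRingCat.ofHom ((X.presheaf.stalkSpecializes hs ≫ X.residue η).hom.codRestrict W.toSubring hW)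
  let l := Spec.map χ ≫ X.fromSpecStalk y
  have hl : Spec.map (CommRingCat.ofHom (algebraMap W K)) ≫ l = X.fromSpecResidueField η := by
    rw [← Spec.map_comp_assoc, Scheme.fromSpecResidueField, ← Scheme.SpecMap_stalkSpecializes_fromSpecStalk hs,
      ← Spec.map_comp_assoc]
    rfl
  obtain ⟨_, ⟨U, hU, rfl⟩, hyU, hUV⟩ :=
    X.isBasis_affineOpens.exists_subset_of_mem_open (show y ∈ (f ⁻¹ᵁ V : Set X) from hy) (f ⁻¹ᵁ V).isOpen
  let ψ : Γ(Y, V) ⟶ CommRingCat.of W := f.appLE V U hUV ≫ X.presheaf.germ U y hyU ≫ χ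
  have hψ : ψ ≫ CommRingCat.ofHom (algebraMap W K) = base := by
    have hc : χ ≫ CommRingCat.ofHom (algebraMap W K) = X.presheaf.stalkSpecializes hs ≫ X.residue η := rfl
    rw [Category.assoc, Category.assoc, hc, TopCat.Presheaf.germ_stalkSpecializes_assoc]
    exact hbase ⟨U, hU, hUV⟩ (hs.mem_open U.isOpen hyU)
  have hψr : Set.range base.hom ⊆ (W : Set K) := by
    rintro _ ⟨r, rfl⟩
    rw [← hψ]
    exact SetLike.coe_mem _
  have hl2 : l ≫ f = Spec.map ψ ≫ hV.fromSpec := by
    change (Spec.map χ ≫ X.fromSpecStalk y) ≫ f = Spec.map (f.appLE V U hUV ≫ X.presheaf.germ U y hyU ≫ χ) ≫ _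
    rw [show X.fromSpecStalk y = Spec.map (X.presheaf.germ U y hyU) ≫ IsAffineOpen.fromSpec hU from
      (IsAffineOpen.fromSpecStalk_eq_fromSpecStalk hU hyU).symm, Spec.map_comp, Spec.map_comp]
    simp only [Category.assoc]
    rw [IsAffineOpen.SpecMap_appLE_fromSpec f hV hU hUV]
  obtain ⟨U', hU', hSW⟩ := hF W hψr
  have hmem := hlift W U' hψr (hS U' W hψr hSW) l hl ⟨ψ, hψ, hl2⟩ (IsLocalRing.closedPoint W)
  have hlc : l (IsLocalRing.closedPoint W) = y := by
    have : IsLocalHom χ.hom := hW'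
    change X.fromSpecStalk y (Spec.map χ (IsLocalRing.closedPoint W)) = y
    rw [show Spec.map χ (IsLocalRing.closedPoint W) = IsLocalRing.closedPoint (X.presheaf.stalk y) from
      IsLocalRing.comap_closedPoint χ.hom, Scheme.fromSpecStalk_closedPoint]
  exact ⟨U'.1, Finset.mem_image_of_mem _ hU', hlc ▸ hmem⟩

theorem main [LocallyOfFiniteType f] (hf : ValuativeCriterion f) (hX : (irreducibleComponents X).Finite) :
    QuasiCompact f := by
  rw [quasiCompact_iff_forall_isAffineOpen]
  intro V hV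
  refine isCompact_preimage f hf (G := (fun x => (isIrreducible_irreducibleComponent (x := x)).genericPoint) '' Set.univ) ?_ ?_ hV
  · let g : X → Set X := irreducibleComponent
    refine Set.Finite.subset (hX.biUnion fun Z _ => (show Set.Subsingleton {a : X | IsGenericPoint a Z} from fun a ha b hb => ha.eq hb).finite) ?_
    rintro _ ⟨x, -, rfl⟩
    exact Set.mem_biUnion (irreducibleComponent_mem_irreducibleComponents x)
      (isIrreducible_irreducibleComponent.isGenericPoint_genericPoint isClosed_irreducibleComponent)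
  · intro y
    exact ⟨_, ⟨y, trivial, rfl⟩, (isIrreducible_irreducibleComponent.isGenericPoint_genericPoint
      isClosed_irreducibleComponent).specializes mem_irreducibleComponent⟩

end Groth.Agent.Lib.Instab.ValQC
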